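import Groth.Agent.S0271
import Groth.Agent.L05.IndEt.Localization
import Mathlib.FieldTheory.Galois.Profinite
import Mathlib.RingTheory.IntegralClosure.IntegrallyClosed

/-! # Inertia invariants of infinite Galois extensions are ind-etale -/

universe u

open CategoryTheory Polynomial

set_option autoImplicit false
set_option linter.style.haveILetI false
set_option linter.unusedSectionVars false
set_option backward.isDefEq.respectTransparency.types false

noncomputable section

namespace Groth.L27.InertiaInd

variable {A K L : Type u} [CommRing A] [Field K] [Field L] [Algebra A K] [Algebra K L] [Algebra A L]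
  [IsScalarTower A K L] [IsGalois K L] (q : Ideal (integralClosure A L))

/-- Automorphisms acting trivially modulo `q` on the integral elements of a subfield. -/
def triv (M : IntermediateField K L) : Set Gal(L/K) :=
  {τ | ∀ b : integralClosure A L, (b : L) ∈ M → ∃ c ∈ q, (c : L) = τ b - b}

theorem isClosed_triv (M : FiniteGaloisIntermediateField K L) : IsClosed (triv q M.1) := by
  let H := M.1.fixingSubgroup
  refine ⟨isOpen_iff_forall_mem_open.2 fun τ hτ => ⟨(τ * ·) '' (H : Set Gal(L/K)), ?_, ?_, ⟨1, H.one_mem, mul_one τ⟩⟩⟩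
  · rintro _ ⟨h, hh, rfl⟩ hmem
    refine hτ fun b hb => ?_
    obtain ⟨c, hc, hc'⟩ := hmem b hb
    refine ⟨c, hc, hc'.trans ?_⟩
    show τ (h b) - b = _
    rw [(IntermediateField.mem_fixingSubgroup_iff _ h).1 hh b hb]
  · exact (IntermediateField.fixingSubgroup_isOpen M.1).leftCoset τ

theorem exists_level (E : Set L) [Finite E] (hE : ∀ τ : Gal(L/K),
    (∀ b : integralClosure A L, ∃ c ∈ q, (c : L) = τ b - b) → ∀ x ∈ E, τ x = x) :
    ∃ M : FiniteGaloisIntermediateField K L, E ⊆ (M.1 : Set L) ∧
      ∀ τ ∈ triv q M.1, ∀ x ∈ E, τ x = x := by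
  classical
  let M₀ := FiniteGaloisIntermediateField.adjoin K E
  let W : Set Gal(L/K) := ((M₀ : IntermediateField K L).fixingSubgroup : Set Gal(L/K))
  let E' := IntermediateField.adjoin K E
  haveI : FiniteDimensional K E' :=
    IntermediateField.finiteDimensional_adjoin fun x _ => (IsGalois.separable K x).isIntegral
  have hopen : IsOpen (E'.fixingSubgroup : Set Gal(L/K)) := IntermediateField.fixingSubgroup_isOpen E'
  let F : FiniteGaloisIntermediateField K L → Set Gal(L/K) := fun M =>
    triv q (M ⊔ M₀).1 ∩ (E'.fixingSubgroup : Set Gal(L/K))ᶜ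
  have hmono : ∀ M N : IntermediateField K L, M ≤ N → triv q N ⊆ triv q M := fun M N h τ hτ b hb => hτ b (h hb)
  by_contra hne
  have hnon : ∀ M, (F M).Nonempty := fun M => by
    by_contra h
    refine hne ⟨M ⊔ M₀, fun x hx => ?_, fun τ hτ x hx => ?_⟩
    · exact ((FiniteGaloisIntermediateField.le_iff _ _).1 le_sup_right) (FiniteGaloisIntermediateField.subset_adjoin K E hx)
    · by_contra hτx
      refine h ⟨τ, hτ, fun hm => hτx ((IntermediateField.mem_fixingSubgroup_iff _ τ).1 hm x ?_)⟩
      exact IntermediateField.subset_adjoin K E hx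
  have hdir : Directed (· ⊇ ·) F := fun M N => ⟨M ⊔ N, fun τ hτ => ⟨hmono _ _
      ((FiniteGaloisIntermediateField.le_iff _ _).1 (sup_le_sup_right le_sup_left M₀)) hτ.1, hτ.2⟩,
    fun τ hτ => ⟨hmono _ _
      ((FiniteGaloisIntermediateField.le_iff _ _).1 (sup_le_sup_right le_sup_right M₀)) hτ.1, hτ.2⟩⟩
  have hcl : ∀ M, IsClosed (F M) := fun M => (isClosed_triv q _).inter hopen.isClosed_compl
  haveI : Nonempty (FiniteGaloisIntermediateField K L) := ⟨M₀⟩
  obtain ⟨τ, hτ⟩ := IsCompact.nonempty_iInter_of_directed_nonempty_isCompact_isClosed F hdir hnon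
    (fun M => (hcl M).isCompact) hcl
  rw [Set.mem_iInter] at hτ
  refine (hτ M₀).2 ((IntermediateField.mem_fixingSubgroup_iff _ τ).2 fun x hx => ?_)
  have hI : ∀ b : integralClosure A L, ∃ c ∈ q, (c : L) = τ b - b := fun b =>
    (hτ (FiniteGaloisIntermediateField.adjoin K {(b : L)})).1 b
      ((FiniteGaloisIntermediateField.le_iff _ _).1 le_sup_left
        (FiniteGaloisIntermediateField.subset_adjoin K _ (Set.mem_singleton _)))
  induction hx using IntermediateField.adjoin_induction with
  | mem y hy => exact hE τ hI y hy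
  | algebraMap y => exact τ.commutes y
  | add y z _ _ hy hz => rw [map_add, hy, hz]
  | inv y _ hy => rw [map_inv₀, hy]
  | mul y z _ _ hy hz => rw [map_mul, hy, hz]

set_option maxHeartbeats 1000000 in
theorem isIndEtale [IsDomain A] [IsIntegrallyClosed A] [IsFractionRing A K] [q.IsPrime] (I : Subgroup Gal(L/K))
    (hI : ∀ σ : Gal(L/K), σ ∈ I ↔ ∀ b : integralClosure A L, ∃ c ∈ q, (c : L) = σ b - b) :
    EtPBC.IsIndEtale A (Localization.AtPrime
      (q.comap (Subalgebra.inclusion
        (inf_le_left : integralClosure A L ⊓ (IntermediateField.fixedField I).toSubalgebra.restrictScalars A ≤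
          integralClosure A L)))) := by
  classical
  let C := integralClosure A L ⊓ (IntermediateField.fixedField I).toSubalgebra.restrictScalars A
  let ι : C →ₐ[A] integralClosure A L := Subalgebra.inclusion inf_le_left
  let qC := q.comap ι
  rw [Groth.L27.IndEtale.isIndEtale_iff_exists_factor]
  intro P _ _ _ φ
  obtain ⟨n, f, hf, -⟩ := Algebra.FinitePresentation.out (R := A) (A := P)
  choose cs hcs using fun i => IsLocalization.surj qC.primeCompl (φ (f (MvPolynomial.X i)))
  let E : Set L := Set.range (fun i => ((cs i).1 : L)) ∪ Set.range (fun i => ((cs i).2.1 : L))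
  have hfix : ∀ (c : C), ∀ τ ∈ I, τ (c : L) = c := fun c τ hτ =>
    (IntermediateField.mem_fixedField_iff I (c : L)).1 c.2.2 τ hτ
  obtain ⟨M, hEM, hMfix⟩ := exists_level q E (fun τ hτ x hx => by
    rcases hx with ⟨i, rfl⟩ | ⟨i, rfl⟩ <;> exact hfix _ τ ((hI τ).2 hτ))
  -- the finite Galois group acting on the integral elements of `M`
  let G := Gal(M.1/K)
  let R := integralClosure A M.1
  let vM : M.1 →ₐ[A] L := (IntermediateField.val M.1).restrictScalars A
  let j : R →ₐ[A] integralClosure A L :=
    AlgHom.codRestrict (vM.comp R.val) (integralClosure A L) fun r => r.2.map vM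
  letI : MulSemiringAction G R :=
    { smul := fun g r => ⟨g (r : M.1), r.2.map ((g : M.1 →ₐ[K] M.1).restrictScalars A)⟩
      one_smul := fun r => Subtype.ext rfl
      mul_smul := fun g h r => Subtype.ext rfl
      smul_zero := fun g => Subtype.ext (map_zero g)
      smul_add := fun g r r' => Subtype.ext (map_add g _ _)
      smul_one := fun g => Subtype.ext (map_one g)
      smul_mul := fun g r r' => Subtype.ext (map_mul g _ _) }
  haveI : Finite G := inferInstance
  let Q := q.comap j
  obtain ⟨g₀, hg₀, het⟩ := Groth.Agent.S0271.result G R Q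
  let H := Q.inertia G
  let S := FixedPoints.subring R H
  -- restriction of automorphisms
  let res : Gal(L/K) →* G := AlgEquiv.restrictNormalHom M.1
  have hres : ∀ (τ : Gal(L/K)) (r : R), ((j (res τ • r) : integralClosure A L) : L) = τ (j r : L) := fun τ r =>
    AlgEquiv.restrictNormalHom_apply M.1 τ (r : M.1)
  have hH : ∀ σ : G, σ ∈ H ↔ ∀ r : R, σ • r - r ∈ Q := fun σ => Iff.rfl
  -- elements fixed by inertia
  have hSC : ∀ x : S, ((j (x : R) : integralClosure A L) : L) ∈ C := fun x => by
    refine ⟨(j (x : R)).2, (IntermediateField.mem_fixedField_iff I _).2 fun τ hτ => ?_⟩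
    have hm : res τ ∈ H := (hH _).2 fun r => by
      obtain ⟨c, hc, hc'⟩ := (hI τ).1 hτ (j r)
      show j (res τ • r - r) ∈ q
      convert hc using 1
      exact Subtype.ext (by rw [map_sub, hc']; exact congrArg (· - _) (hres τ r))
    exact (hres τ x).symm.trans (congrArg (fun r => ((j r : integralClosure A L) : L)) (x.2 ⟨_, hm⟩))
  have hES : ∀ x ∈ E, IsIntegral A x → ∃ y : S, ((j (y : R) : integralClosure A L) : L) = x := fun x hx hi => by
    let r : R := ⟨⟨x, hEM hx⟩, (isIntegral_algHom_iff vM vM.toRingHom.injective).1 hi⟩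
    refine ⟨⟨r, fun σ => ?_⟩, rfl⟩
    obtain ⟨τ, hτ⟩ := AlgEquiv.restrictNormalHom_surjective L σ.1
    have hτ' : τ ∈ triv q M.1 := fun b hb => by
      let r' : R := ⟨⟨b, hb⟩, (isIntegral_algHom_iff vM vM.toRingHom.injective).1 b.2⟩
      refine ⟨j (σ.1 • r' - r'), (hH _).1 σ.2 r', ?_⟩
      rw [map_sub, ← hτ]
      exact congrArg (· - (b : L)) (hres τ r')
    have := hMfix τ hτ' x hx
    apply Subtype.ext; apply Subtype.ext
    show ((j (σ.1 • r) : integralClosure A L) : L) = x
    rw [← hτ]
    exact (hres τ r).trans this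
  -- comparison with the invariants
  let jS : S →+* C :=
    RingHom.codRestrict (((integralClosure A L).val.toRingHom.comp j.toRingHom).comp S.subtype) C hSC
  have hjS : Function.Injective jS := fun x y h => Subtype.ext (Subtype.ext
    (vM.toRingHom.injective (congrArg (fun z : C => (z : L)) h)))
  let qS := qC.comap jS
  have hqS : qS = Q.comap S.subtype := rfl
  -- the invariants of the whole group are `A`
  let i₀ : A →+* FixedPoints.subring R G := (algebraMap A R).codRestrict _ fun a σ =>
    Subtype.ext (by
      show σ (algebraMap A M.1 a) = algebraMap A M.1 a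
      rw [IsScalarTower.algebraMap_apply A K M.1 a]
      exact σ.commutes _)
  have hi₀ : Function.Bijective i₀ := by
    refine ⟨fun a b h => ?_, fun x => ?_⟩
    · have h' : algebraMap A M.1 a = algebraMap A M.1 b := congrArg (fun z => (z.1.1 : M.1)) h
      rw [IsScalarTower.algebraMap_apply A K M.1 a, IsScalarTower.algebraMap_apply A K M.1 b] at h'
      exact IsFractionRing.injective A K ((algebraMap K M.1).injective h')
    · have hx : (x.1.1 : M.1) ∈ (⊥ : IntermediateField K M.1) := by
        rw [← IsGalois.fixedField_top (F := K) (E := M.1)]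
        exact (IntermediateField.mem_fixedField_iff _ _).2 fun σ _ => congrArg Subtype.val (x.2 σ)
      obtain ⟨k, hk⟩ := IntermediateField.mem_bot.1 hx
      have hki : IsIntegral A k := (isIntegral_algHom_iff (IsScalarTower.toAlgHom A K M.1)
        (algebraMap K M.1).injective).1 (hk.symm ▸ x.1.2)
      obtain ⟨a, rfl⟩ := IsIntegrallyClosed.isIntegral_iff.1 hki
      exact ⟨a, Subtype.ext (Subtype.ext ((IsScalarTower.algebraMap_apply A K M.1 a).trans hk))⟩
  let Sg := Localization.Away g₀
  letI algAS : Algebra A S := (((algebraMap (FixedPoints.subring R G) S)).comp i₀).toAlgebra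
  letI algAG : Algebra A (FixedPoints.subring R G) := i₀.toAlgebra
  haveI : IsScalarTower A (FixedPoints.subring R G) S := IsScalarTower.of_algebraMap_eq' rfl
  haveI : IsScalarTower A (FixedPoints.subring R G) Sg := IsScalarTower.of_algebraMap_eq fun a => by
    rw [IsScalarTower.algebraMap_apply A S Sg, IsScalarTower.algebraMap_apply A (FixedPoints.subring R G) S,
      ← IsScalarTower.algebraMap_apply (FixedPoints.subring R G) S Sg]
  haveI : Algebra.Etale A (FixedPoints.subring R G) :=
    RingHom.etale_algebraMap.mp (RingHom.Etale.of_bijective hi₀)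
  haveI := het
  haveI : Algebra.Etale A Sg := Algebra.Etale.comp A (FixedPoints.subring R G) Sg
  let T := Localization.AtPrime qS
  have hle : Submonoid.powers g₀ ≤ qS.primeCompl := (Submonoid.powers_le).2 hg₀
  letI : Algebra Sg T := IsLocalization.localizationAlgebraOfSubmonoidLe Sg T _ _ hle
  haveI : IsScalarTower S Sg T :=
    IsLocalization.localization_isScalarTower_of_submonoid_le Sg T _ _ hle
  haveI := IsLocalization.isLocalization_of_submonoid_le Sg T _ _ hle
  haveI : IsScalarTower A Sg T := IsScalarTower.of_algebraMap_eq fun a => by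
    rw [IsScalarTower.algebraMap_apply A S T, IsScalarTower.algebraMap_apply A S Sg,
      ← IsScalarTower.algebraMap_apply S Sg T]
  have hT : EtPBC.IsIndEtale A T :=
    Groth.L05.IndEt.isIndEtale_localization A Sg T (qS.primeCompl.map (algebraMap S Sg))
  let lr := Localization.localRingHom qS qC jS rfl
  let jT : T →ₐ[A] Localization.AtPrime qC :=
    { lr with
      commutes' := fun a => by
        show lr (algebraMap A T a) = _
        rw [IsScalarTower.algebraMap_apply A S T, Localization.localRingHom_to_map,
          IsScalarTower.algebraMap_apply A C (Localization.AtPrime qC)]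
        exact congrArg (algebraMap C _) (Subtype.ext
          ((congrArg (fun z : R => ((j z : integralClosure A L) : L)) rfl).trans
            (congrArg Subtype.val (j.commutes a)))) }
  have hinj : Function.Injective jT := by
    rw [injective_iff_map_eq_zero]
    intro z hz
    obtain ⟨⟨x, s⟩, hxs⟩ := IsLocalization.surj qS.primeCompl z
    have h0 : algebraMap C (Localization.AtPrime qC) (jS x) = 0 := by
      rw [← Localization.localRingHom_to_map qS qC jS rfl x, ← hxs]
      show jT (z * _) = 0
      rw [map_mul, hz, zero_mul]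
    obtain ⟨c, hc⟩ := (IsLocalization.map_eq_zero_iff qC.primeCompl _ _).1 h0
    have hx : x = 0 := hjS (((mul_eq_zero.1 hc).resolve_left fun h => c.2 (h ▸ qC.zero_mem)).trans (map_zero jS).symm)
    rw [hx, map_zero] at hxs
    exact (IsLocalization.map_units T s).mul_left_eq_zero.1 hxs
  have hrange : ∀ p, φ p ∈ jT.range := by
    intro p
    obtain ⟨p, rfl⟩ := hf p
    induction p using MvPolynomial.induction_on with
    | C a =>
      rw [← MvPolynomial.algebraMap_eq, AlgHom.commutes, AlgHom.commutes]
      exact Subalgebra.algebraMap_mem _ a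
    | add x y hx hy => rw [map_add, map_add]; exact add_mem hx hy
    | mul_X x i hx =>
      rw [map_mul, map_mul]
      refine mul_mem hx ?_
      obtain ⟨y, hy⟩ := hES _ (Or.inl ⟨i, rfl⟩) (cs i).1.2.1
      obtain ⟨t, ht⟩ := hES _ (Or.inr ⟨i, rfl⟩) (cs i).2.1.2.1
      have hy' : jS y = (cs i).1 := Subtype.ext hy
      have ht' : jS t = (cs i).2.1 := Subtype.ext ht
      have htq : t ∈ qS.primeCompl := fun h => (cs i).2.2 (ht' ▸ h)
      refine ⟨IsLocalization.mk' T y ⟨t, htq⟩, ?_⟩
      show lr _ = _
      rw [Localization.localRingHom_mk', IsLocalization.mk'_eq_iff_eq_mul]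
      simp only [hy', ht']
      exact (hcs i).symm
  let φ' : P →ₐ[A] T :=
    (AlgEquiv.ofInjective jT hinj).symm.toAlgHom.comp (φ.codRestrict jT.range hrange)
  obtain ⟨E₁, i₁, i₂, α, β, hE, hc⟩ := (Groth.L27.IndEtale.isIndEtale_iff_exists_factor A T).1 hT P φ'
  refine ⟨E₁, i₁, i₂, α, jT.comp β, hE, AlgHom.ext fun p => ?_⟩
  show jT (β (α p)) = φ p
  rw [show β (α p) = φ' p from AlgHom.congr_fun hc p]
  exact congrArg Subtype.val ((AlgEquiv.ofInjective jT hinj).apply_symm_apply _)

end Groth.L27.InertiaInd
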